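import Groth.Agent.CplGal24.Local

/-!
# `C ⊗ R̂` is normal for `C` normal finite over a local G-ring `R`
-/

set_option autoImplicit false
universe u

open TensorProduct IsLocalRing
open Groth.Agent

namespace CplGal24

theorem isRegularHom_cpl (R : Type u) [CommRing R] [IsLocalRing R] (hG : CAlg.IsGRing R) :
    CAlg.IsRegularHom R (EGA4.Cpl R) := by
  have := hG.1
  let L := Localization.AtPrime (maximalIdeal R)
  have : IsNoetherianRing L := IsLocalization.isNoetherianRing (maximalIdeal R).primeCompl L inferInstance
  let e := IsLocalization.atUnits R (maximalIdeal R).primeCompl (S := L)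
    (fun x hx => notMem_maximalIdeal.mp hx)
  obtain ⟨f, hf⟩ := EGA4H10.exists_cpl_equiv e.toRingEquiv.symm
  exact EGA4H10.isRegularHom_of_ringEquiv e.toRingEquiv.symm f hf (hG.2 (maximalIdeal R))

theorem isNormalRing_of_isRegularRing (B : Type u) [CommRing B] [IsRegularRing B] :
    EGA4.IsNormalRing B := fun p _ =>
  have := EGA4H10.regular_atPrime_of_isRegularRing p
  ⟨CAlg1.isDomain_regular _, CAlg6.isIntegrallyClosed_of_regular _⟩

theorem isNormalRing_tensor (R C : Type u) [CommRing R] [IsLocalRing R] [CommRing C] [Algebra R C]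
    [Module.Finite R C] [IsDomain C] [IsIntegrallyClosed C] (hG : CAlg.IsGRing R) :
    EGA4.IsNormalRing (C ⊗[R] EGA4.Cpl R) := by
  have := hG.1
  obtain ⟨hflat, hfib⟩ := isRegularHom_cpl R hG
  have : IsNoetherianRing C := isNoetherianRing_iff.2 (isNoetherian_of_tower R inferInstance)
  have := isNoetherianRing_tensor R C
  have hgeom : ∀ (r : Ideal C) [r.IsPrime],
      EGA4.IsGeomNormal r.ResidueField (r.Fiber (C ⊗[R] EGA4.Cpl R)) := by
    intro r _ K _ _ hK
    let P := r.under R
    have : r.LiesOver P := ⟨rfl⟩
    let := Localization.AtPrime.algebraOfLiesOver P r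
    let : Algebra R K := ((algebraMap r.ResidueField K).comp (algebraMap R r.ResidueField)).toAlgebra
    let : Algebra C K := ((algebraMap r.ResidueField K).comp (algebraMap C r.ResidueField)).toAlgebra
    let : Algebra P.ResidueField K :=
      ((algebraMap r.ResidueField K).comp (algebraMap P.ResidueField r.ResidueField)).toAlgebra
    have : IsScalarTower C r.ResidueField K := IsScalarTower.of_algebraMap_eq fun _ => rfl
    have : IsScalarTower R r.ResidueField K := IsScalarTower.of_algebraMap_eq fun _ => rfl
    have : IsScalarTower P.ResidueField r.ResidueField K := IsScalarTower.of_algebraMap_eq fun _ => rfl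
    have : IsScalarTower R C K := IsScalarTower.of_algebraMap_eq fun x => by
      show algebraMap r.ResidueField K (algebraMap R r.ResidueField x) =
        algebraMap r.ResidueField K (algebraMap C r.ResidueField (algebraMap R C x))
      rw [IsScalarTower.algebraMap_apply R C r.ResidueField]
    have : IsScalarTower R P.ResidueField K := IsScalarTower.of_algebraMap_eq fun x => by
      show algebraMap r.ResidueField K (algebraMap R r.ResidueField x) =
        algebraMap r.ResidueField K (algebraMap P.ResidueField r.ResidueField (algebraMap R P.ResidueField x))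
      rw [IsScalarTower.algebraMap_apply R P.ResidueField r.ResidueField]
    have : Module.Finite P.ResidueField K := Module.Finite.trans r.ResidueField K
    obtain ⟨-, hgeo⟩ := hfib P
    have := hgeo K inferInstance
    refine EGA4H10.isNormalRing_of_ringEquiv ?_ (isNormalRing_of_isRegularRing (K ⊗[P.ResidueField] P.Fiber (EGA4.Cpl R)))
    exact (Algebra.TensorProduct.cancelBaseChange R P.ResidueField P.ResidueField K (EGA4.Cpl R)).toRingEquiv.trans
      ((Algebra.TensorProduct.cancelBaseChange R C C K (EGA4.Cpl R)).symm.toRingEquiv.trans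
        (Algebra.TensorProduct.cancelBaseChange C r.ResidueField r.ResidueField K
          (C ⊗[R] EGA4.Cpl R)).symm.toRingEquiv)
  intro q _
  obtain ⟨h1, h2⟩ := EGA4H10.normal_of_domain C (q.comap (algebraMap C (C ⊗[R] EGA4.Cpl R)))
  exact EGA4H10.normal_localization_of_flat C (C ⊗[R] EGA4.Cpl R)
    (fun q' _ => EGA4H10.fibLocRing_normal hgeom q') q h1 h2

theorem isDomain_isIntegrallyClosed_cpl_self (R : Type u) [CommRing R] [IsLocalRing R] [IsDomain R]
    [IsIntegrallyClosed R] (hG : CAlg.IsGRing R) :
    IsDomain (EGA4.Cpl R) ∧ IsIntegrallyClosed (EGA4.Cpl R) :=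
  have := hG.1
  EGA4H10.domain_of_normal_local _ (EGA4H10.isNormalRing_of_ringEquiv
    (Algebra.TensorProduct.lid R (EGA4.Cpl R)).toRingEquiv (isNormalRing_tensor R R hG))

end CplGal24
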