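import Mathlib

/-!
# Approximate invariants at a prime of an invariant extension
-/

set_option autoImplicit false

open scoped Pointwise

namespace CplGal24

variable {R S G : Type*} [CommRing R] [CommRing S] [Algebra R S] [Group G] [MulSemiringAction G S]
  [SMulCommClass G R S]

/-- An element outside a prime `Q` divides, modulo `Q ^ N`, an element of `R \ P`. -/
theorem exists_mul_add_mem [Algebra.IsIntegral R S] (P : Ideal R) (Q : Ideal S) [Q.IsPrime]
    [Q.LiesOver P] {c : S} (hc : c ∉ Q) (N : ℕ) :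
    ∃ u : R, u ∉ P ∧ ∃ w : S, algebraMap R S u - c * w ∈ Q ^ N := by
  have hlt := Ideal.comap_lt_comap_of_integral_mem_sdiff (R := R) (I := Q)
    (J := Q ⊔ Ideal.span {c}) le_sup_left (x := c)
    ⟨Ideal.mem_sup_right (Ideal.mem_span_singleton_self c), hc⟩ (Algebra.IsIntegral.isIntegral c)
  obtain ⟨u, hu, hu'⟩ := SetLike.exists_of_lt hlt
  obtain ⟨q, hq, y, hy, hqy⟩ := Submodule.mem_sup.mp (Ideal.mem_comap.mp hu)
  obtain ⟨w, rfl⟩ := Ideal.mem_span_singleton'.mp hy
  have huP : u ∉ P := fun h => hu' (by rwa [← Ideal.under_def, ← Q.over_def P])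
  have hP : P.IsPrime := by rw [Q.over_def P]; infer_instance
  obtain ⟨d, hd⟩ := sub_dvd_pow_sub_pow (algebraMap R S u) q N
  refine ⟨u ^ N, fun h => huP (hP.mem_of_pow_mem _ h), w * d, ?_⟩
  have : algebraMap R S (u ^ N) - c * (w * d) = q ^ N := by
    rw [map_pow, ← mul_assoc, mul_comm c w, show w * c = algebraMap R S u - q by rw [← hqy]; ring,
      ← hd, sub_sub_cancel]
  rw [this]
  exact Ideal.pow_mem_pow hq N

theorem exists_smul_mem_pow [Algebra.IsIntegral R S] (P : Ideal R) (Q : Ideal S) [Q.IsPrime]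
    [Q.LiesOver P] {v z : S} (hv : v ∉ Q) (N : ℕ) (h : v * z ∈ Q ^ N) :
    ∃ u : R, u ∉ P ∧ algebraMap R S u * z ∈ Q ^ N := by
  obtain ⟨u, hu, w, hw⟩ := exists_mul_add_mem P Q hv N
  refine ⟨u, hu, ?_⟩
  have : algebraMap R S u * z = w * (v * z) + (algebraMap R S u - v * w) * z := by ring
  rw [this]
  exact add_mem (Ideal.mul_mem_left _ _ h) (Ideal.mul_mem_right _ _ hw)

omit [SMulCommClass G R S] in
theorem smul_mem_smul_pow {I : Ideal S} {x : S} {N : ℕ} (g : G) (h : x ∈ I ^ N) :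
    g • x ∈ (g • I) ^ N := by
  rw [← smul_pow']
  exact Ideal.smul_mem_pointwise_smul g _ _ h

variable [Finite G] [Algebra.IsInvariant R S G] (P : Ideal R) (Q : Ideal S) [Q.IsPrime] [Q.LiesOver P]

omit [Group G] [MulSemiringAction G S] [SMulCommClass G R S] [Finite G] [Algebra.IsInvariant R S G] in
/-- An approximate idempotent at a prime over `P`. -/
theorem exists_idem [Algebra.IsIntegral R S] (T : Finset (Ideal S))
    (hT : ∀ Q' ∈ T, Q'.LiesOver P ∧ Q'.IsPrime) (hQT : Q ∉ T) (N : ℕ) :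
    ∃ U : R, U ∉ P ∧ ∃ e : S, algebraMap R S U - e ∈ Q ^ N ∧ e ∈ (∏ Q' ∈ T, Q') ^ N := by
  classical
  have hne : ∀ Q' ∈ T, ¬ Q' ≤ Q := by
    intro Q' hQ' hle
    obtain ⟨hl, hp⟩ := hT Q' hQ'
    rcases lt_or_eq_of_le hle with hlt | heq
    · obtain ⟨x, hx, hx'⟩ := SetLike.exists_of_lt hlt
      have := Ideal.comap_lt_comap_of_integral_mem_sdiff (R := R) hle ⟨hx, hx'⟩
        (Algebra.IsIntegral.isIntegral x)
      rw [← Ideal.under_def, ← Ideal.under_def, ← Q'.over_def P, ← Q.over_def P] at this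
      exact lt_irrefl _ this
    · exact hQT (heq ▸ hQ')
  have hnle : ¬ (∏ Q' ∈ T, Q') ≤ Q := fun h => by
    obtain ⟨Q', hQ', hle⟩ := (Ideal.IsPrime.prod_le inferInstance).mp h
    exact hne Q' hQ' hle
  obtain ⟨e₀, he₀, he₀'⟩ := SetLike.not_le_iff_exists.mp hnle
  have hc : e₀ ^ N ∉ Q := fun h => he₀' (Ideal.IsPrime.mem_of_pow_mem inferInstance _ h)
  obtain ⟨U, hU, w, hw⟩ := exists_mul_add_mem P Q hc N
  exact ⟨U, hU, e₀ ^ N * w, hw, Ideal.mul_mem_right _ _ (Ideal.pow_mem_pow he₀ N)⟩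

omit [Group G] [MulSemiringAction G S] [SMulCommClass G R S] [Finite G] [Algebra.IsInvariant R S G] in
include Q in
/-- An element in the powers of all conjugates lies, up to `R \ P`, in their product. -/
theorem exists_smul_mem_prod [Algebra.IsIntegral R S] (T : Finset (Ideal S))
    (hT : ∀ Q' ∈ T, Q'.LiesOver P ∧ Q'.IsPrime) (N : ℕ) {z : S} (hz : ∀ Q' ∈ T, z ∈ Q' ^ N) :
    ∃ u : R, u ∉ P ∧ algebraMap R S u * z ∈ (∏ Q' ∈ T, Q') ^ N := by
  classical
  have hP : P.IsPrime := by rw [Q.over_def P]; infer_instance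
  induction T using Finset.induction_on with
  | empty => exact ⟨1, fun h => hP.ne_top (P.eq_top_iff_one.mpr h), by rw [Finset.prod_empty, one_pow, Ideal.one_eq_top]; trivial⟩
  | insert Q₁ T hQ₁ ih =>
    obtain ⟨u, hu, huz⟩ := ih (fun Q' h => hT Q' (Finset.mem_insert_of_mem h))
      (fun Q' h => hz Q' (Finset.mem_insert_of_mem h))
    obtain ⟨hl, hp⟩ := hT Q₁ (Finset.mem_insert_self _ _)
    obtain ⟨U, hU, e, he, heT⟩ := exists_idem P Q₁ T
      (fun Q' h => hT Q' (Finset.mem_insert_of_mem h)) hQ₁ N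
    refine ⟨U * u, fun h => (hP.mem_or_mem h).elim hU hu, ?_⟩
    rw [Finset.prod_insert hQ₁, mul_pow, map_mul]
    have : algebraMap R S U * algebraMap R S u * z = z * (e * algebraMap R S u) +
        (algebraMap R S U - e) * (algebraMap R S u * z) := by ring
    rw [this]
    exact add_mem (Ideal.mul_mem_mul (hz Q₁ (Finset.mem_insert_self _ _))
      (Ideal.mul_mem_right _ _ heT)) (Ideal.mul_mem_mul he huz)

include Q in
/-- An element in high powers of all conjugates of `Q` lies, up to `R \ P`, in `P ^ n S`. -/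
theorem exists_forall_smul_mem_map_pow [IsNoetherianRing S] [Algebra.IsIntegral R S] (n : ℕ) :
    ∃ N, n ≤ N ∧ ∀ z : S, (∀ g : G, z ∈ (g • Q) ^ N) →
      ∃ u : R, u ∉ P ∧ algebraMap R S u * z ∈ (P.map (algebraMap R S)) ^ n := by
  classical
  let _ := Fintype.ofFinite G
  have hP : P.IsPrime := by rw [Q.over_def P]; infer_instance
  let T : Finset (Ideal S) := Finset.univ.image fun g : G => g • Q
  let M := Algebra.algebraMapSubmonoid S P.primeCompl
  let ι := algebraMap S (Localization M)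
  have hT : ∀ Q' ∈ T, Q'.LiesOver P ∧ Q'.IsPrime := by
    intro Q' hQ'
    obtain ⟨g, -, rfl⟩ := Finset.mem_image.mp hQ'
    exact ⟨inferInstance, inferInstance⟩
  have hJ : (∏ Q' ∈ T, Q').map ι ≤ ((P.map (algebraMap R S)).map ι).radical := by
    rw [Ideal.radical_eq_sInf]
    refine le_sInf fun 𝔭 h𝔭 => ?_
    obtain ⟨hle, hprime⟩ := h𝔭
    rw [Ideal.map_le_iff_le_comap]
    have : (𝔭.comap ι).IsPrime := Ideal.IsPrime.comap ι
    have hu : (𝔭.comap ι).under R = Q.under R := by
      rw [← Q.over_def P]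
      refine le_antisymm (fun r hr => ?_) (fun r hr => hle (Ideal.mem_map_of_mem _
        (Ideal.mem_map_of_mem _ hr)))
      by_contra hrP
      exact hprime.ne_top (𝔭.eq_top_of_isUnit_mem hr
        (IsLocalization.map_units (Localization M) (⟨algebraMap R S r, r, hrP, rfl⟩ : M)))
    obtain ⟨g, hg⟩ := Algebra.IsInvariant.exists_smul_of_under_eq R S G Q (𝔭.comap ι) hu.symm
    rw [hg]
    exact Ideal.le_of_dvd (Finset.dvd_prod_of_mem _
      (Finset.mem_image_of_mem _ (Finset.mem_univ g)))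
  have : IsNoetherianRing (Localization M) := IsLocalization.isNoetherianRing M _ inferInstance
  obtain ⟨c, hc⟩ := Ideal.exists_pow_le_of_le_radical_of_fg hJ (IsNoetherian.noetherian _)
  refine ⟨c * n + n, Nat.le_add_left _ _, fun z hz => ?_⟩
  obtain ⟨u, hu, huz⟩ := exists_smul_mem_prod P Q T hT (c * n + n) (z := z) (fun Q' hQ' => by
    obtain ⟨g, -, rfl⟩ := Finset.mem_image.mp hQ'
    exact hz g)
  have h1 : ι (algebraMap R S u * z) ∈ ((P.map (algebraMap R S)) ^ n).map ι := by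
    rw [Ideal.map_pow]
    refine Ideal.pow_right_mono hc n ?_
    rw [← pow_mul, ← Ideal.map_pow]
    exact Ideal.mem_map_of_mem _ (Ideal.pow_le_pow_right (Nat.le_add_right _ _) huz)
  obtain ⟨_, ⟨t, ht, rfl⟩, hm⟩ :=
    (IsLocalization.algebraMap_mem_map_algebraMap_iff M (Localization M) _ _).mp h1
  refine ⟨t * u, fun h => (hP.mem_or_mem h).elim ht hu, ?_⟩
  rw [map_mul, mul_assoc]
  exact hm

variable [Module.Finite R S] [IsNoetherianRing R]

/-- Artin–Rees for the invariants. -/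
theorem exists_approx_invariant :
    ∃ k, ∀ n z, (∀ g : G, g • z - z ∈ (P.map (algebraMap R S)) ^ (n + k)) →
      ∃ r : R, z - algebraMap R S r ∈ (P.map (algebraMap R S)) ^ n := by
  classical
  let _ := Fintype.ofFinite G
  let Φ : S →ₗ[R] (G → S) := LinearMap.pi fun g : G =>
    (MulSemiringAction.toAlgHom R S g).toLinearMap - LinearMap.id
  have hsub : ∀ n, (P ^ n • ⊤ : Submodule R S) = ((P.map (algebraMap R S)) ^ n).restrictScalars R :=
    fun n => by rw [Ideal.smul_top_eq_map, Ideal.map_pow]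
  obtain ⟨k, hk⟩ := Ideal.exists_pow_inf_eq_pow_smul P (LinearMap.range Φ)
  refine ⟨k, fun n z hz => ?_⟩
  have h1 : Φ z ∈ (P ^ (n + k) • ⊤ : Submodule R (G → S)) := by
    rw [← Finset.univ_sum_single (Φ z)]
    refine Submodule.sum_mem _ fun g _ => ?_
    have : (P ^ (n + k) • ⊤ : Submodule R S).map (LinearMap.single R (fun _ : G => S) g) ≤
        P ^ (n + k) • ⊤ := by
      rw [Submodule.map_smul'']
      exact Submodule.smul_mono le_rfl le_top
    refine this ⟨_, ?_, rfl⟩
    rw [hsub]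
    exact hz g
  have h2 : Φ z ∈ (P ^ n • ⊤ : Submodule R S).map Φ := by
    have h := hk (n + k) (Nat.le_add_left _ _) ▸ Submodule.mem_inf.mpr ⟨h1, LinearMap.mem_range_self Φ z⟩
    rw [Submodule.map_smul'', Submodule.map_top, ← Nat.add_sub_cancel n k]
    exact Submodule.smul_mono le_rfl inf_le_right h
  obtain ⟨y, hy, hyz⟩ := h2
  obtain ⟨r, hr⟩ := Algebra.IsInvariant.isInvariant (A := R) (z - y) fun g : G => by
    have := congrFun hyz g
    simp only [Φ, LinearMap.pi_apply, LinearMap.sub_apply, LinearMap.id_apply,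
      AlgHom.toLinearMap_apply, MulSemiringAction.toAlgHom_apply] at this
    rw [smul_sub, sub_eq_sub_iff_sub_eq_sub]
    exact this.symm
  refine ⟨r, ?_⟩
  rw [hr, sub_sub_cancel]
  rw [hsub] at hy
  exact hy

omit [Finite G] [Algebra.IsInvariant R S G] in
theorem exists_contraction [FaithfulSMul R S] :
    ∃ k, ∀ n r, algebraMap R S r ∈ (P.map (algebraMap R S)) ^ (n + k) → r ∈ P ^ n := by
  let Φ : R →ₗ[R] S := Algebra.linearMap R S
  obtain ⟨k, hk⟩ := Ideal.exists_pow_inf_eq_pow_smul P (LinearMap.range Φ)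
  refine ⟨k, fun n r hr => ?_⟩
  have h1 : Φ r ∈ (P ^ (n + k) • ⊤ : Submodule R S) := by
    rw [Ideal.smul_top_eq_map, Ideal.map_pow]
    exact hr
  have h := hk (n + k) (Nat.le_add_left _ _) ▸ Submodule.mem_inf.mpr ⟨h1, LinearMap.mem_range_self Φ r⟩
  rw [Nat.add_sub_cancel] at h
  have h2 : Φ r ∈ (P ^ n • ⊤ : Submodule R R).map Φ := by
    rw [Submodule.map_smul'', Submodule.map_top]
    exact Submodule.smul_mono le_rfl inf_le_right h
  obtain ⟨y, hy, hyr⟩ := h2
  rw [← (FaithfulSMul.algebraMap_injective R S) hyr]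
  rwa [smul_eq_mul, Ideal.mul_top] at hy

include G in
/-- High symbolic powers of `Q` meet `R` in high symbolic powers of `P`. -/
theorem exists_descend [FaithfulSMul R S] [IsNoetherianRing S] (n : ℕ) :
    ∃ N, n ≤ N ∧ ∀ r : R, algebraMap R S r ∈ Q ^ N → ∃ u : R, u ∉ P ∧ u * r ∈ P ^ n := by
  have : Algebra.IsIntegral R S := Algebra.IsInvariant.isIntegral R S G
  obtain ⟨k, hk⟩ := exists_contraction (S := S) P
  obtain ⟨N, hN, hN'⟩ := exists_forall_smul_mem_map_pow (G := G) P Q (n + k)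
  refine ⟨N, by omega, fun r hr => ?_⟩
  obtain ⟨u, hu, h⟩ := hN' (algebraMap R S r) fun g => by
    rw [← smul_algebraMap g r]
    exact smul_mem_smul_pow g hr
  exact ⟨u, hu, hk n _ (by rw [map_mul]; exact h)⟩

set_option maxHeartbeats 1000000 in
/-- An element almost invariant at `Q` under the decomposition group comes almost from `R`. -/
theorem exists_lift [IsNoetherianRing S] (n : ℕ) :
    ∃ N, n ≤ N ∧ ∀ s : S, (∀ g ∈ MulAction.stabilizer G Q, g • s - s ∈ Q ^ N) →
      ∃ u : R, u ∉ P ∧ ∃ r : R, algebraMap R S u * s - algebraMap R S r ∈ Q ^ n := by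
  classical
  let _ := Fintype.ofFinite G
  have hP : P.IsPrime := by rw [Q.over_def P]; infer_instance
  have : Algebra.IsIntegral R S := Algebra.IsInvariant.isIntegral R S G
  obtain ⟨k, hk⟩ := exists_approx_invariant (G := G) (S := S) P
  obtain ⟨N, hN, hN'⟩ := exists_forall_smul_mem_map_pow (G := G) P Q (n + k)
  refine ⟨N, by omega, fun s hs => ?_⟩
  let O : Finset (Ideal S) := Finset.univ.image fun g : G => g • Q
  have hQO : Q ∈ O := Finset.mem_image.mpr ⟨1, Finset.mem_univ _, one_smul _ _⟩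
  obtain ⟨U, hU, e, he, heT⟩ := exists_idem P Q (O.erase Q) (fun Q' h => by
    obtain ⟨g, -, rfl⟩ := Finset.mem_image.mp (Finset.mem_of_mem_erase h)
    exact ⟨inferInstance, inferInstance⟩) (Finset.notMem_erase _ _) N
  have he' : ∀ g : G, g • Q ≠ Q → e ∈ (g • Q) ^ N := fun g hg =>
    have hmem : g • Q ∈ O.erase Q := Finset.mem_erase.mpr
      ⟨hg, Finset.mem_image_of_mem (fun g : G => g • Q) (Finset.mem_univ g)⟩
    have hle : (∏ Q' ∈ O.erase Q, Q') ≤ g • Q :=
      Ideal.le_of_dvd (Finset.dvd_prod_of_mem (fun Q' : Ideal S => Q') hmem)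
    Ideal.pow_right_mono hle N heT
  have hch : ∀ Q' ∈ O, ∃ g : G, g • Q = Q' := fun Q' h => by
    obtain ⟨g, -, hg⟩ := Finset.mem_image.mp h
    exact ⟨g, hg⟩
  choose! h hh using hch
  set a := algebraMap R S U with ha
  set σ := ∑ Q' ∈ O, h Q' • (s * e) with hσ
  have hcong : ∀ g : G, σ - a * g • s ∈ (g • Q) ^ N := by
    intro g
    have hgO : g • Q ∈ O := Finset.mem_image_of_mem _ (Finset.mem_univ g)
    rw [hσ, ← Finset.add_sum_erase _ _ hgO, add_sub_right_comm]
    refine add_mem ?_ (Ideal.sum_mem _ fun Q' hQ' => ?_)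
    · have hd : g⁻¹ * h (g • Q) ∈ MulAction.stabilizer G Q := by
        rw [MulAction.mem_stabilizer_iff, mul_smul, hh _ hgO, inv_smul_smul]
      have hmem : (g⁻¹ * h (g • Q)) • (s * e) - a * s ∈ Q ^ N := by
        generalize g⁻¹ * h (g • Q) = d at hd
        have h1 : d • e - a ∈ Q ^ N := by
          have := smul_mem_smul_pow d (neg_mem he)
          rwa [MulAction.mem_stabilizer_iff.mp hd, neg_sub, smul_sub, ha, smul_algebraMap] at this
        rw [smul_mul', show d • s * d • e - a * s = d • s * (d • e - a) + a * (d • s - s) by ring]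
        exact add_mem (Ideal.mul_mem_left _ _ h1) (Ideal.mul_mem_left _ _ (hs d hd))
      have := smul_mem_smul_pow g hmem
      rwa [smul_sub, ← mul_smul, mul_inv_cancel_left, smul_mul' g a, ha, smul_algebraMap] at this
    · obtain ⟨hne, hQ'⟩ := Finset.mem_erase.mp hQ'
      have h1 : ((h Q')⁻¹ * g) • Q ≠ Q := fun heq => hne (by
        rw [mul_smul, inv_smul_eq_iff] at heq
        rw [heq, hh _ hQ'])
      have := smul_mem_smul_pow (h Q') (Ideal.mul_mem_left _ s (he' _ h1))
      rwa [← mul_smul, mul_inv_cancel_left] at this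
  have hδ : ∀ g g' : G, g • σ - σ ∈ (g' • Q) ^ N := by
    intro g g'
    have h1 := smul_mem_smul_pow g (hcong (g⁻¹ * g'))
    rw [smul_sub, ← mul_smul, mul_inv_cancel_left, smul_mul' g a, ← mul_smul, mul_inv_cancel_left, ha,
      smul_algebraMap] at h1
    have := sub_mem h1 (hcong g')
    rwa [sub_sub_sub_cancel_right] at this
  choose u hu huσ using fun g : G => hN' (g • σ - σ) (hδ g)
  have hu' : ∏ g, u g ∉ P := fun hmem => by
    obtain ⟨g, -, hg⟩ := (Ideal.IsPrime.prod_mem_iff).mp hmem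
    exact hu g hg
  obtain ⟨r, hr⟩ := hk n (algebraMap R S (∏ g, u g) * σ) fun g => by
    rw [smul_mul', smul_algebraMap, ← mul_sub, ← Finset.prod_erase_mul _ _ (Finset.mem_univ g),
      map_mul, mul_assoc]
    exact Ideal.mul_mem_left _ _ (huσ g)
  refine ⟨(∏ g, u g) * U, fun hmem => (hP.mem_or_mem hmem).elim hu' hU, r, ?_⟩
  have hPQ : P.map (algebraMap R S) ≤ Q := Ideal.map_le_iff_le_comap.mpr (Q.over_def P).le
  have h1 := Ideal.pow_right_mono hPQ n hr
  have h2 : σ - a * s ∈ Q ^ n := by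
    have := hcong 1
    rw [one_smul, one_smul] at this
    exact Ideal.pow_le_pow_right (by omega) this
  have : algebraMap R S ((∏ g, u g) * U) * s - algebraMap R S r =
      (algebraMap R S (∏ g, u g) * σ - algebraMap R S r) -
        algebraMap R S (∏ g, u g) * (σ - a * s) := by
    rw [map_mul, ha]; ring
  rw [this]
  exact sub_mem h1 (Ideal.mul_mem_left _ _ h2)

end CplGal24
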