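import Groth.Agent.CplGal24.Local

/-!
# Local rings of integral closures in a compositum
-/

set_option autoImplicit false
universe u

open TensorProduct IsLocalRing
open Groth.Agent

namespace CplGal24

variable (R K L M Ω : Type u) [CommRing R] [IsDomain R] [Field K] [Field L] [Field M] [Field Ω]
  [Algebra R K] [IsFractionRing R K] [Algebra K L] [Algebra K M] [Algebra K Ω] [Algebra L Ω]
  [Algebra M Ω] [IsScalarTower K L Ω] [IsScalarTower K M Ω] [FiniteDimensional K L]
  [FiniteDimensional K M]

omit [IsFractionRing R K] [IsDomain R] in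
theorem finite_separable_compositum [Algebra.IsSeparable K L] [Algebra.IsSeparable K M]
    (hΩ : IntermediateField.adjoin K (Set.range (algebraMap L Ω) ∪ Set.range (algebraMap M Ω)) = ⊤) :
    FiniteDimensional K Ω ∧ Algebra.IsSeparable K Ω := by
  let fL := (IsScalarTower.toAlgHom K L Ω).fieldRange
  let fM := (IsScalarTower.toAlgHom K M Ω).fieldRange
  have h1 : fL ⊔ fM = ⊤ := by
    rw [eq_top_iff, ← hΩ, IntermediateField.adjoin_le_iff]
    rintro x (⟨y, rfl⟩ | ⟨y, rfl⟩)
    · exact (le_sup_left : fL ≤ fL ⊔ fM) ⟨y, rfl⟩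
    · exact (le_sup_right : fM ≤ fL ⊔ fM) ⟨y, rfl⟩
  have : FiniteDimensional K fL :=
    LinearEquiv.finiteDimensional (AlgEquiv.ofInjectiveField (IsScalarTower.toAlgHom K L Ω)).toLinearEquiv
  have : FiniteDimensional K fM :=
    LinearEquiv.finiteDimensional (AlgEquiv.ofInjectiveField (IsScalarTower.toAlgHom K M Ω)).toLinearEquiv
  have : Algebra.IsSeparable K fL :=
    AlgEquiv.Algebra.isSeparable (AlgEquiv.ofInjectiveField (IsScalarTower.toAlgHom K L Ω))
  have : Algebra.IsSeparable K fM :=
    AlgEquiv.Algebra.isSeparable (AlgEquiv.ofInjectiveField (IsScalarTower.toAlgHom K M Ω))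
  have h2 : FiniteDimensional K ↥(fL ⊔ fM) := IntermediateField.finiteDimensional_sup fL fM
  have h3 : Algebra.IsSeparable K ↥(fL ⊔ fM) := inferInstance
  rw [h1] at h2 h3
  exact ⟨LinearEquiv.finiteDimensional IntermediateField.topEquiv.toLinearEquiv,
    AlgEquiv.Algebra.isSeparable IntermediateField.topEquiv⟩

variable [Algebra R L] [Algebra R M] [Algebra R Ω] [IsScalarTower R K L] [IsScalarTower R K M]
  [IsScalarTower R K Ω] [IsScalarTower R L Ω] [IsScalarTower R M Ω]

/-- The integral elements of `Ω` lying in `L` or in `M`. -/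
def gens : Set ↥(integralClosure R Ω) :=
  {c | (c : Ω) ∈ Set.range (algebraMap L Ω) ∨ (c : Ω) ∈ Set.range (algebraMap M Ω)}

include K in
theorem exists_multiple_mem_adjoin
    (hΩ : IntermediateField.adjoin K (Set.range (algebraMap L Ω) ∪ Set.range (algebraMap M Ω)) = ⊤)
    [FiniteDimensional K Ω] (ω : Ω) :
    ∃ r : R, r ≠ 0 ∧ ∃ c ∈ Algebra.adjoin R (gens R L M Ω), (c : Ω) = r • ω := by
  have hinjR : Function.Injective (algebraMap R Ω) := by
    rw [IsScalarTower.algebraMap_eq R K Ω]
    exact (algebraMap K Ω).injective.comp (IsFractionRing.injective R K)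
  have : Algebra.IsAlgebraic R Ω :=
    (IsFractionRing.comap_isAlgebraic_iff (A := R) (K := K) (C := Ω)).mpr inferInstance
  have hgen : ∀ x : Ω, (x ∈ Set.range (algebraMap L Ω) ∨ x ∈ Set.range (algebraMap M Ω)) →
      ∃ r : R, r ≠ 0 ∧ ∃ c ∈ Algebra.adjoin R (gens R L M Ω), (c : Ω) = r • x := by
    intro x hx
    obtain ⟨r, hr, hint⟩ := (Algebra.IsAlgebraic.isAlgebraic (R := R) x).exists_integral_multiple
    refine ⟨r, hr, ⟨r • x, hint⟩, Algebra.subset_adjoin ?_, rfl⟩
    rcases hx with ⟨l, rfl⟩ | ⟨m, rfl⟩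
    · exact Or.inl ⟨r • l, (IsScalarTower.toAlgHom R L Ω).toLinearMap.map_smul r l⟩
    · exact Or.inr ⟨r • m, (IsScalarTower.toAlgHom R M Ω).toLinearMap.map_smul r m⟩
  have hω : ω ∈ Algebra.adjoin K (Set.range (algebraMap L Ω) ∪ Set.range (algebraMap M Ω)) := by
    rw [← IntermediateField.adjoin_toSubalgebra_of_isAlgebraic
      (fun x _ => Algebra.IsAlgebraic.isAlgebraic x), hΩ, IntermediateField.top_toSubalgebra]
    exact Algebra.mem_top
  induction hω using Algebra.adjoin_induction with
  | mem x hx => exact hgen x hx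
  | algebraMap k =>
    exact hgen _ (Or.inl ⟨algebraMap K L k, (IsScalarTower.algebraMap_apply K L Ω k).symm⟩)
  | add x y _ _ hx hy =>
    obtain ⟨r, hr, c, hc, hcx⟩ := hx
    obtain ⟨s, hs, d, hd, hdy⟩ := hy
    refine ⟨r * s, mul_ne_zero hr hs, s • c + r • d, add_mem (Subalgebra.smul_mem _ hc _)
      (Subalgebra.smul_mem _ hd _), ?_⟩
    simp only [Subalgebra.coe_add, Subalgebra.coe_smul, hcx, hdy, smul_smul, smul_add, mul_comm r s]
  | mul x y _ _ hx hy =>
    obtain ⟨r, hr, c, hc, hcx⟩ := hx
    obtain ⟨s, hs, d, hd, hdy⟩ := hy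
    refine ⟨r * s, mul_ne_zero hr hs, c * d, mul_mem hc hd, ?_⟩
    rw [Subalgebra.coe_mul, hcx, hdy, smul_mul_smul_comm]

include K in
theorem exists_common_multiple
    (hΩ : IntermediateField.adjoin K (Set.range (algebraMap L Ω) ∪ Set.range (algebraMap M Ω)) = ⊤)
    [FiniteDimensional K Ω] [Module.Finite R ↥(integralClosure R Ω)] :
    ∃ d : R, d ≠ 0 ∧ ∀ c : ↥(integralClosure R Ω), d • c ∈ Algebra.adjoin R (gens R L M Ω) := by
  classical
  obtain ⟨t, ht⟩ := (Module.Finite.fg_top : (⊤ : Submodule R ↥(integralClosure R Ω)).FG)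
  choose r hr c hc hcr using fun x : Ω => exists_multiple_mem_adjoin R K L M Ω hΩ x
  refine ⟨∏ x ∈ t, r x, Finset.prod_ne_zero_iff.mpr fun x _ => hr _, fun y => ?_⟩
  have hy : y ∈ Submodule.span R (t : Set ↥(integralClosure R Ω)) := ht ▸ Submodule.mem_top
  induction hy using Submodule.span_induction with
  | mem x hx =>
    rw [← Finset.prod_erase_mul _ _ (Finset.mem_coe.mp hx), mul_smul]
    refine Subalgebra.smul_mem _ ?_ _
    convert hc x using 1
    exact Subtype.ext (hcr x).symm
  | zero => rw [smul_zero]; exact zero_mem _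
  | add a b _ _ ha hb => rw [smul_add]; exact add_mem ha hb
  | smul s a _ ha => rw [smul_comm]; exact Subalgebra.smul_mem _ ha _

section Key

variable [IsLocalRing R] [IsNoetherianRing R] [Module.Finite R ↥(integralClosure R Ω)]
  [FiniteDimensional K Ω] (𝔪 : Ideal ↥(integralClosure R Ω)) [𝔪.IsMaximal]
  (A : Type u) [CommRing A] [IsLocalRing A] [Algebra ↥(integralClosure R Ω) A] [Algebra R A]
  [IsScalarTower R ↥(integralClosure R Ω) A] [IsLocalization.AtPrime A 𝔪] [IsNoetherianRing A]

include K 𝔪 in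
/-- A subring of `Â` containing `R̂` and the integral elements of `L` and `M` is big. -/
theorem exists_mul_mem
    (hΩ : IntermediateField.adjoin K (Set.range (algebraMap L Ω) ∪ Set.range (algebraMap M Ω)) = ⊤)
    (ρ : EGA4.Cpl R →ₐ[R] EGA4.Cpl A) (W : Subring (EGA4.Cpl A)) (hρ : ∀ r, ρ r ∈ W)
    (hgen : ∀ c ∈ gens R L M Ω, algebraMap ↥(integralClosure R Ω) (EGA4.Cpl A) c ∈ W) :
    ∃ d : R, algebraMap R (EGA4.Cpl A) d ≠ 0 ∧ ∀ x, algebraMap R (EGA4.Cpl A) d * x ∈ W := by
  obtain ⟨d, hd, hdc⟩ := exists_common_multiple R K L M Ω hΩ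
  have hinjR : Function.Injective (algebraMap R ↥(integralClosure R Ω)) := by
    refine Function.Injective.of_comp (f := fun c : ↥(integralClosure R Ω) => (c : Ω)) ?_
    show Function.Injective (algebraMap R Ω)
    rw [IsScalarTower.algebraMap_eq R K Ω]
    exact (algebraMap K Ω).injective.comp (IsFractionRing.injective R K)
  refine ⟨d, fun h => hd (hinjR ?_), fun x => ?_⟩
  · rw [map_zero]
    rw [IsScalarTower.algebraMap_apply R ↥(integralClosure R Ω) (EGA4.Cpl A),
      IsScalarTower.algebraMap_apply ↥(integralClosure R Ω) A (EGA4.Cpl A)] at h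
    refine IsLocalization.injective A 𝔪.primeCompl_le_nonZeroDivisors ?_
    rw [map_zero]
    exact (AdicCompletion.of_injective (I := maximalIdeal A) (M := A)) (h.trans (map_zero _).symm)
  · obtain ⟨z, rfl⟩ := (finite_of_hom R _ 𝔪 A ρ).2 x
    induction z using TensorProduct.induction_on with
    | zero => rw [map_zero, mul_zero]; exact zero_mem _
    | add a b ha hb => rw [map_add, mul_add]; exact add_mem ha hb
    | tmul c r =>
      show algebraMap R (EGA4.Cpl A) d * Algebra.TensorProduct.lift _ _ _ (c ⊗ₜ[R] r) ∈ W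
      rw [Algebra.TensorProduct.lift_tmul, ← mul_assoc]
      refine mul_mem ?_ (hρ r)
      have hmem : ∀ y ∈ Algebra.adjoin R (gens R L M Ω),
          algebraMap ↥(integralClosure R Ω) (EGA4.Cpl A) y ∈ W := by
        intro y hy
        induction hy using Algebra.adjoin_induction with
        | mem y hy => exact hgen y hy
        | algebraMap r =>
          rw [← IsScalarTower.algebraMap_apply, ← ρ.commutes]
          exact hρ _
        | add a b _ _ ha hb => rw [map_add]; exact add_mem ha hb
        | mul a b _ _ ha hb => rw [map_mul]; exact mul_mem ha hb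
      have := hmem _ (hdc c)
      rwa [Algebra.smul_def, map_mul, ← IsScalarTower.algebraMap_apply] at this

end Key

section Contraction

variable [Algebra.IsSeparable K M] [IsIntegrallyClosed R]

include K in
/-- The contraction to `M` of a local ring of the integral closure in `Ω` is the local ring of the
integral closure in `M`. -/
theorem mem_comap_iff [IsNoetherianRing R] (𝔪 : Ideal ↥(integralClosure R Ω)) [𝔪.IsMaximal]
    (g : ↥(integralClosure R M) →+* ↥(integralClosure R Ω))
    (hg : ∀ b : ↥(integralClosure R M), (g b : Ω) = algebraMap M Ω (b : M))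
    (z : M) (a b : ↥(integralClosure R Ω)) (hb : b ∉ 𝔪) (hz : algebraMap M Ω z * (b : Ω) = (a : Ω)) :
    ∃ s t : ↥(integralClosure R M), t ∉ 𝔪.comap g ∧ z * (t : M) = (s : M) := by
  classical
  let B := ↥(integralClosure R M)
  let C := ↥(integralClosure R Ω)
  have : Module.Finite R B := IsIntegralClosure.finite R K M B
  have : IsNoetherianRing B := isNoetherianRing_iff.2 (isNoetherian_of_tower R inferInstance)
  have : IsIntegrallyClosed B := integralClosure.isIntegrallyClosedOfFiniteExtension K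
  have : IsFractionRing B M := integralClosure.isFractionRing_of_finite_extension K M
  let : Algebra B C := g.toAlgebra
  have : IsScalarTower R B C := IsScalarTower.of_algebraMap_eq fun r => Subtype.ext (by
    show algebraMap R Ω r = (g (algebraMap R B r) : Ω)
    rw [hg]
    exact IsScalarTower.algebraMap_apply R M Ω r)
  have : Algebra.IsIntegral B C := ⟨fun c => (Algebra.IsIntegral.isIntegral (R := R) c).tower_top⟩
  have : FaithfulSMul B C := (faithfulSMul_iff_algebraMap_injective B C).mpr fun x y h => by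
    have := congrArg (fun c : C => (c : Ω)) h
    simp only [show algebraMap B C = g from rfl, hg] at this
    exact Subtype.ext ((algebraMap M Ω).injective this)
  let q : Ideal B := 𝔪.comap g
  have hq : q.IsPrime := Ideal.IsPrime.comap g
  have hq1 : (1 : B) ∉ q := fun h => hq.ne_top (q.eq_top_iff_one.mpr h)
  -- the elements of `M` in the local ring at `q`
  let Bq : Submodule B M :=
    { carrier := {y | ∃ s t : B, t ∉ q ∧ y * (t : M) = (s : M)}
      zero_mem' := ⟨0, 1, hq1, by simp⟩
      add_mem' := by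
        rintro x y ⟨s, t, ht, h⟩ ⟨s', t', ht', h'⟩
        refine ⟨s * t' + s' * t, t * t', fun hm => (hq.mem_or_mem hm).elim ht ht', ?_⟩
        show (x + y) * ((t : M) * (t' : M)) = (s : M) * (t' : M) + (s' : M) * (t : M)
        rw [← h, ← h']
        ring
      smul_mem' := by
        rintro c x ⟨s, t, ht, h⟩
        refine ⟨c * s, t, ht, ?_⟩
        show (c : M) * x * (t : M) = (c : M) * (s : M)
        rw [← h]
        ring }
  suffices z ∈ Bq from this
  by_contra hzB
  let I : M → Ideal B := fun y => Bq.comap (LinearMap.toSpanSingleton B M y)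
  have hI : ∀ y x, x ∈ I y ↔ (x : M) * y ∈ Bq := fun y x => Iff.rfl
  obtain ⟨p, ⟨c, hc, rfl⟩, hmax⟩ := set_has_maximal_iff_noetherian.mpr (inferInstance : IsNoetherian B B)
    {J : Ideal B | ∃ c : B, (c : M) * z ∉ Bq ∧ J = I ((c : M) * z)} ⟨_, 1, by simpa using hzB, rfl⟩
  set y := (c : M) * z with hy
  have hp : (I y).IsPrime := by
    refine ⟨fun h => hc (by simpa [hI] using (h ▸ Submodule.mem_top : (1 : B) ∈ I y)), fun {x₁ x₂} h => ?_⟩
    by_contra hne
    push Not at hne
    have h2 : ((x₂ * c : B) : M) * z ∉ Bq := by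
      rw [Subalgebra.coe_mul, mul_assoc]
      exact hne.2
    have hle : I y ≤ I (((x₂ * c : B) : M) * z) := fun x hx => by
      rw [hI, Subalgebra.coe_mul, mul_assoc, ← mul_assoc (x : M), mul_comm (x : M), mul_assoc]
      exact Bq.smul_mem x₂ hx
    have heq := (lt_or_eq_of_le hle).resolve_left (hmax _ ⟨x₂ * c, h2, rfl⟩)
    exact hne.1 (by
      rw [heq, hI, Subalgebra.coe_mul, mul_assoc, ← mul_assoc (x₁ : M), ← Subalgebra.coe_mul]
      exact (hI y _).mp h)
  have hpq : I y ≤ q := fun x hx => by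
    by_contra hxq
    obtain ⟨s, t, ht, hst⟩ := hx
    refine hc ⟨s, x * t, fun hm => (hq.mem_or_mem hm).elim hxq ht, ?_⟩
    change (x : M) * y * (t : M) = s at hst
    rw [Subalgebra.coe_mul, ← hst]
    ring
  obtain ⟨x, hxp, s, t, ht, hst, hs⟩ : ∃ x ∈ I y, ∃ s t : B, t ∉ q ∧
      (x : M) * y * (t : M) = (s : M) ∧ s ∉ I y := by
    by_contra hall
    push Not at hall
    obtain ⟨gs, hgs⟩ := IsNoetherian.noetherian (I y)
    choose! s t ht hst using fun x (hx : x ∈ I y) => (hx : ∃ s t : B, t ∉ q ∧ (x : M) * y * (t : M) = (s : M))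
    let T := ∏ x ∈ gs, t x
    have hT : T ∉ q := fun hm => by
      obtain ⟨x, hx, hxq⟩ := (Ideal.IsPrime.prod_mem_iff).mp hm
      exact ht x (hgs ▸ Submodule.subset_span hx) hxq
    have hp0 : I y ≠ ⊥ := by
      obtain ⟨u, v, hv, huv⟩ := IsFractionRing.div_surjective (A := B) y
      refine (Submodule.ne_bot_iff _).mpr ⟨v, ?_, nonZeroDivisors.ne_zero hv⟩
      refine ⟨u, 1, hq1, ?_⟩
      show (v : M) * y * ((1 : B) : M) = u
      rw [← huv]
      have : (v : M) ≠ 0 := fun h => nonZeroDivisors.ne_zero hv (Subtype.ext h)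
      show (v : M) * ((u : M) / (v : M)) * 1 = (u : M)
      field_simp
    let N : Submodule B M := Submodule.map (Algebra.linearMap B M) (I y)
    have hN0 : N ≠ ⊥ := fun h => hp0 (by
      rw [eq_bot_iff]
      intro x hx
      have : Algebra.linearMap B M x ∈ (⊥ : Submodule B M) := h ▸ Submodule.mem_map_of_mem hx
      exact Subtype.ext (this : (x : M) = 0))
    have hint : IsIntegral B ((T : M) * y) := by
      refine isIntegral_of_smul_mem_submodule N hN0 ((IsNoetherian.noetherian (I y)).map _) _ ?_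
      rintro _ ⟨x, hx, rfl⟩
      rw [SetLike.mem_coe, ← hgs] at hx
      induction hx using Submodule.span_induction with
      | mem x hx =>
        have hxI : x ∈ I y := hgs ▸ Submodule.subset_span hx
        refine ⟨(∏ w ∈ gs.erase x, t w) * s x,
          Ideal.mul_mem_left _ _ (hall x hxI (s x) (t x) (ht x hxI) (hst x hxI)), ?_⟩
        show (((∏ w ∈ gs.erase x, t w) * s x : B) : M) = (T : M) * y * (x : M)
        rw [Subalgebra.coe_mul, ← hst x hxI, show (T : M) = ((∏ w ∈ gs.erase x, t w : B) : M) * (t x : M) by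
          rw [← Subalgebra.coe_mul, Finset.prod_erase_mul _ _ (Finset.mem_coe.mp hx)]]
        show _ * ((x : M) * y * (t x : M)) = _
        ring
      | zero => rw [map_zero, smul_zero]; exact zero_mem _
      | add a b _ _ ha hb => rw [map_add, smul_add]; exact add_mem ha hb
      | smul r a _ ha => rw [map_smul, smul_comm]; exact N.smul_mem r ha
    obtain ⟨w, hw⟩ := IsIntegrallyClosed.isIntegral_iff.mp hint
    exact hc ⟨w, T, hT, by rw [mul_comm]; exact hw.symm⟩
  -- going down
  have : q.IsPrime := hq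
  have : 𝔪.LiesOver q := ⟨rfl⟩
  obtain ⟨P, hP𝔪, hPprime, hPover⟩ := Ideal.exists_ideal_le_liesOver_of_le (S := C) 𝔪 hpq
  have hyA : algebraMap M Ω y * (b : Ω) = ((g c * a : C) : Ω) := by
    rw [hy, map_mul, mul_assoc, hz, Subalgebra.coe_mul, hg]
  have hmul : g t * g x * (g c * a) = g s * b := Subtype.ext (by
    rw [Subalgebra.coe_mul, Subalgebra.coe_mul, ← hyA, hg, hg, Subalgebra.coe_mul, hg, ← hst]
    simp only [map_mul]
    ring)
  have hx' : g x ∈ P := by
    have := hPover.over ▸ hxp
    exact this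
  have hmem : g s * b ∈ P := hmul ▸ Ideal.mul_mem_right _ _ (Ideal.mul_mem_left _ _ hx')
  rcases hPprime.mem_or_mem hmem with h | h
  · exact hs (hPover.over.symm ▸ h)
  · exact hb (hP𝔪 h)

end Contraction

end CplGal24
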