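import Groth.Agent.Cohen12.Completion
import Groth.Agent.Cohen12.Finite
import Groth.Agent.EGA4H10.NormalFlat
import Groth.Agent.EGA4H10.GRingLoc
import Groth.Agent.EGA4H10.GenFormal
import Groth.Agent.CAlg6.RegularNormal

/-!
# Completions of the local rings of a finite algebra over a local ring
-/

set_option autoImplicit false
universe u

open TensorProduct IsLocalRing
open Groth.Agent

namespace CplGal24

/-- Krull intersection at a prime of a Noetherian ring. -/
theorem exists_mul_eq_zero_of_pow {B : Type u} [CommRing B] [IsNoetherianRing B] (n : Ideal B)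
    [n.IsPrime] (z : B) (h : ∀ k, ∃ v ∉ n, v * z ∈ n ^ k) : ∃ v, v ∉ n ∧ v * z = 0 := by
  let L := Localization.AtPrime n
  have : IsNoetherianRing L := IsLocalization.isNoetherianRing n.primeCompl L inferInstance
  have h' : algebraMap B L z ∈ ⨅ k : ℕ, maximalIdeal L ^ k := (Submodule.mem_iInf _).mpr fun k => by
    rw [← Localization.AtPrime.map_eq_maximalIdeal, ← Ideal.map_pow,
      IsLocalization.algebraMap_mem_map_algebraMap_iff n.primeCompl]
    exact h k
  rw [Ideal.iInf_pow_eq_bot_of_isLocalRing (maximalIdeal L) (maximalIdeal.isMaximal L).ne_top,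
    Ideal.mem_bot] at h'
  obtain ⟨⟨v, hv⟩, hvz⟩ := (IsLocalization.map_eq_zero_iff n.primeCompl L z).mp h'
  exact ⟨v, hv, hvz⟩

variable (R : Type u) [CommRing R] [IsLocalRing R]

/-- The map induced on completions by a local algebra. -/
theorem exists_cplMap (X : Type u) [CommRing X] [IsLocalRing X] [Algebra R X]
    (h : (maximalIdeal R).map (algebraMap R X) ≤ maximalIdeal X) :
    Nonempty (EGA4.Cpl R →ₐ[R] EGA4.Cpl X) := by
  have hcomap : ∀ n, maximalIdeal R ^ n ≤ (maximalIdeal X ^ n).comap (algebraMap R X) := fun n => by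
    rw [← Ideal.map_le_iff_le_comap, Ideal.map_pow]
    exact Ideal.pow_right_mono h n
  let φ : ∀ n, R ⧸ maximalIdeal R ^ n →ₐ[R] X ⧸ maximalIdeal X ^ n := fun n =>
    Ideal.Quotient.liftₐ _ ((Ideal.Quotient.mkₐ R (maximalIdeal X ^ n)).comp (Algebra.ofId R X))
      fun a ha => Ideal.Quotient.eq_zero_iff_mem.2 (hcomap n ha)
  let fam : ∀ n, EGA4.Cpl R →ₐ[R] X ⧸ maximalIdeal X ^ n :=
    fun n => (φ n).comp (AdicCompletion.evalₐ (maximalIdeal R) n)
  have hfam : ∀ {m n : ℕ} (hle : m ≤ n),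
      (Ideal.Quotient.factorₐ R (Ideal.pow_le_pow_right hle)).comp (fam n) = fam m := by
    intro m n hle
    ext x
    obtain ⟨g, rfl⟩ := AdicCompletion.mk_surjective (maximalIdeal R) R x
    simp only [fam, φ, AlgHom.comp_apply, AdicCompletion.evalₐ_mk]
    change Ideal.Quotient.mk (maximalIdeal X ^ m) (algebraMap R X (g.val n)) =
      Ideal.Quotient.mk (maximalIdeal X ^ m) (algebraMap R X (g.val m))
    rw [Ideal.Quotient.eq, ← map_sub]
    refine hcomap m ?_
    have h := SModEq.sub_mem.1 (g.property hle).symm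
    rwa [smul_eq_mul, Ideal.mul_top] at h
  exact ⟨AdicCompletion.liftAlgHom (maximalIdeal X) fam hfam⟩

variable (C : Type u) [CommRing C] [Algebra R C] [Module.Finite R C] [IsNoetherianRing R]
  (𝔪 : Ideal C) [𝔪.IsMaximal]
  (X : Type u) [CommRing X] [IsLocalRing X] [Algebra C X] [Algebra R X] [IsScalarTower R C X]
  [IsLocalization.AtPrime X 𝔪]

include R C 𝔪 in
theorem isNoetherianRing_local : IsNoetherianRing X :=
  have : IsNoetherianRing C := isNoetherianRing_iff.2 (isNoetherian_of_tower R inferInstance)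
  IsLocalization.isNoetherianRing 𝔪.primeCompl X inferInstance

omit [IsNoetherianRing R] in
include 𝔪 in
theorem map_maximalIdeal_le_self : (maximalIdeal R).map (algebraMap R C) ≤ 𝔪 := by
  have := Ideal.IsMaximal.under R 𝔪
  rw [Ideal.map_le_iff_le_comap, ← Ideal.under_def, eq_maximalIdeal this]

omit [IsNoetherianRing R] in
include C 𝔪 in
theorem map_maximalIdeal_le : (maximalIdeal R).map (algebraMap R X) ≤ maximalIdeal X := by
  rw [IsScalarTower.algebraMap_eq R C X, ← Ideal.map_map,
    ← IsLocalization.AtPrime.map_eq_maximalIdeal 𝔪 X]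
  exact Ideal.map_mono (map_maximalIdeal_le_self R C 𝔪)

omit [Algebra R C] [Module.Finite R C] [IsScalarTower R C X] [Algebra R X] [IsNoetherianRing R] in
theorem pow_maximalIdeal_eq [IsNoetherianRing X] (n : ℕ) :
    maximalIdeal (EGA4.Cpl X) ^ n = (𝔪 ^ n).map (algebraMap C (EGA4.Cpl X)) := by
  have h : maximalIdeal X ^ n = (𝔪 ^ n).map (algebraMap C X) := by
    rw [Ideal.map_pow, IsLocalization.AtPrime.map_eq_maximalIdeal 𝔪 X]
  rw [Cohen12.pow_maximalIdeal_completion, h, Ideal.map_map, ← IsScalarTower.algebraMap_eq]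

omit [Algebra R C] [Module.Finite R C] [IsScalarTower R C X] [Algebra R X] [IsNoetherianRing R] in
theorem algebraMap_mem_pow [IsNoetherianRing X] {n : ℕ} {c : C}
    (h : algebraMap C (EGA4.Cpl X) c ∈ maximalIdeal (EGA4.Cpl X) ^ n) :
    ∃ v ∉ 𝔪, v * c ∈ 𝔪 ^ n := by
  rw [IsScalarTower.algebraMap_apply C X, Cohen12.algebraMap_mem_pow_iff,
    ← IsLocalization.AtPrime.map_eq_maximalIdeal 𝔪 X, ← Ideal.map_pow,
    IsLocalization.algebraMap_mem_map_algebraMap_iff 𝔪.primeCompl] at h
  exact h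

omit [Algebra R C] [Module.Finite R C] [IsScalarTower R C X] [Algebra R X] [IsNoetherianRing R] in
theorem isUnit_algebraMap {v : C} (hv : v ∉ 𝔪) : IsUnit (algebraMap C (EGA4.Cpl X) v) := by
  rw [IsScalarTower.algebraMap_apply C X]
  exact (IsLocalization.map_units X (⟨v, hv⟩ : 𝔪.primeCompl)).map _

omit [Algebra R C] [Module.Finite R C] [IsScalarTower R C X] [Algebra R X] [IsNoetherianRing R] in
include 𝔪 in
/-- `C` is dense in the completion of its localization at a maximal ideal. -/
theorem exists_approx [IsNoetherianRing X] (y : EGA4.Cpl X) (n : ℕ) :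
    ∃ c : C, y - algebraMap C (EGA4.Cpl X) c ∈ maximalIdeal (EGA4.Cpl X) ^ n := by
  obtain ⟨b, hb⟩ := Cohen12.exists_sub_mem_pow X n y
  obtain ⟨a, s, rfl⟩ := IsLocalization.exists_mk'_eq 𝔪.primeCompl b
  have htop : Ideal.span {(s : C)} ⊔ 𝔪 ^ n = ⊤ := Ideal.sup_pow_eq_top
    ((Ideal.IsMaximal.out (I := 𝔪)).2 _ (lt_of_le_of_ne le_sup_right fun h =>
      s.2 (h.ge (Ideal.mem_sup_left (Ideal.mem_span_singleton_self _)))))
  obtain ⟨p, hp, q, hq, hpq⟩ := Submodule.mem_sup.mp (htop.ge (Submodule.mem_top : (1 : C) ∈ ⊤))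
  obtain ⟨w, rfl⟩ := Ideal.mem_span_singleton'.mp hp
  refine ⟨a * w, ?_⟩
  have hq' : algebraMap X (EGA4.Cpl X) (algebraMap C X q) ∈ maximalIdeal (EGA4.Cpl X) ^ n := by
    rw [Cohen12.algebraMap_mem_pow_iff, ← IsLocalization.AtPrime.map_eq_maximalIdeal 𝔪 X,
      ← Ideal.map_pow]
    exact Ideal.mem_map_of_mem _ hq
  have : y - algebraMap C (EGA4.Cpl X) (a * w) = (y - algebraMap X _ (IsLocalization.mk' X a s)) +
      algebraMap X _ (IsLocalization.mk' X a s) * algebraMap X (EGA4.Cpl X) (algebraMap C X q) := by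
    have hq'' : algebraMap C X q = 1 - algebraMap C X w * algebraMap C X s := by
      rw [← map_mul, ← map_one (algebraMap C X), ← hpq, map_add, map_mul]; ring
    rw [IsScalarTower.algebraMap_apply C X, ← map_mul, hq'', mul_sub, mul_one, mul_left_comm,
      IsLocalization.mk'_spec, ← map_mul, mul_comm a w, map_sub]
    ring
  rw [this]
  exact add_mem hb (Ideal.mul_mem_left _ _ hq')

omit [IsScalarTower R C X] [Algebra R X] [IsLocalRing X] [Algebra C X] [IsLocalization.AtPrime X 𝔪] in
theorem exists_pow_le : ∃ c, ∀ z ∈ 𝔪 ^ c, ∃ v ∉ 𝔪, v * z ∈ (maximalIdeal R).map (algebraMap R C) := by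
  let L := Localization.AtPrime 𝔪
  have : IsNoetherianRing C := isNoetherianRing_iff.2 (isNoetherian_of_tower R inferInstance)
  have : IsNoetherianRing L := IsLocalization.isNoetherianRing 𝔪.primeCompl L inferInstance
  have hrad : maximalIdeal L ≤ (((maximalIdeal R).map (algebraMap R C)).map (algebraMap C L)).radical := by
    rw [Ideal.radical_eq_sInf]
    refine le_sInf fun p hp => ?_
    obtain ⟨hle, hprime⟩ := hp
    have hq : (p.comap (algebraMap C L)).IsPrime := Ideal.IsPrime.comap _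
    have hcomap : p.comap (algebraMap C L) ≤ 𝔪 :=
      (Ideal.comap_mono (le_maximalIdeal hprime.ne_top)).trans_eq
        Localization.AtPrime.under_maximalIdeal
    have hu : ((p.comap (algebraMap C L)).comap (algebraMap R C)) = maximalIdeal R :=
      ((maximalIdeal.isMaximal R).eq_of_le (Ideal.IsPrime.comap _).ne_top
        (Ideal.map_le_iff_le_comap.mp (Ideal.map_le_iff_le_comap.mp hle))).symm
    have hmax : (p.comap (algebraMap C L)).IsMaximal :=
      Ideal.isMaximal_of_isIntegral_of_isMaximal_comap (R := R) _ (hu ▸ maximalIdeal.isMaximal R)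
    rw [← Localization.AtPrime.map_eq_maximalIdeal, Ideal.map_le_iff_le_comap]
    exact (hmax.eq_of_le (Ideal.IsPrime.ne_top inferInstance) hcomap).ge
  obtain ⟨c, hc⟩ := Ideal.exists_pow_le_of_le_radical_of_fg hrad (IsNoetherian.noetherian _)
  refine ⟨c, fun z hz => ?_⟩
  have h1 : algebraMap C L z ∈ ((maximalIdeal R).map (algebraMap R C)).map (algebraMap C L) :=
    hc (by rw [← Localization.AtPrime.map_eq_maximalIdeal, ← Ideal.map_pow]; exact Ideal.mem_map_of_mem _ hz)
  exact (IsLocalization.algebraMap_mem_map_algebraMap_iff 𝔪.primeCompl L _ _).mp h1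

variable [IsNoetherianRing X] (ρ : EGA4.Cpl R →ₐ[R] EGA4.Cpl X)

/-- The comparison map from `C ⊗ R̂`. -/
noncomputable def lift : C ⊗[R] EGA4.Cpl R →ₐ[C] EGA4.Cpl X :=
  Algebra.TensorProduct.lift (R := R) (S := C) (Algebra.ofId C (EGA4.Cpl X)) ρ fun _ _ => Commute.all _ _

include 𝔪 in
theorem finite_of_hom :
    letI := ρ.toRingHom.toAlgebra
    Module.Finite (EGA4.Cpl R) (EGA4.Cpl X) ∧ Function.Surjective (lift R C X ρ) := by
  classical
  letI := ρ.toRingHom.toAlgebra
  have : IsScalarTower R (EGA4.Cpl R) (EGA4.Cpl X) :=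
    IsScalarTower.of_algebraMap_eq fun r => (ρ.commutes r).symm
  have := Cohen12.isAdicComplete_completion R
  have := Cohen12.isAdicComplete_completion X
  have := Cohen12.isNoetherianRing_completion X
  have hmap : (maximalIdeal (EGA4.Cpl R)).map ρ.toRingHom =
      ((maximalIdeal R).map (algebraMap R C)).map (algebraMap C (EGA4.Cpl X)) := by
    rw [← pow_one (maximalIdeal (EGA4.Cpl R)), Cohen12.pow_maximalIdeal_completion, pow_one,
      Ideal.map_map, Ideal.map_map, ← IsScalarTower.algebraMap_eq R C (EGA4.Cpl X)]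
    congr 1
    exact ρ.comp_algebraMap
  have hle : (maximalIdeal (EGA4.Cpl R)).map ρ.toRingHom ≤ maximalIdeal (EGA4.Cpl X) := by
    rw [hmap, ← pow_one (maximalIdeal (EGA4.Cpl X)), pow_maximalIdeal_eq C 𝔪 X, pow_one]
    exact Ideal.map_mono (map_maximalIdeal_le_self R C 𝔪)
  obtain ⟨c, hc⟩ := exists_pow_le R C 𝔪
  have hprim : maximalIdeal (EGA4.Cpl X) ^ c ≤ (maximalIdeal (EGA4.Cpl R)).map ρ.toRingHom := by
    rw [pow_maximalIdeal_eq C 𝔪 X, hmap, Ideal.map_le_iff_le_comap]
    intro z hz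
    obtain ⟨v, hv, hvz⟩ := hc z hz
    rw [Ideal.mem_comap]
    refine (Ideal.unit_mul_mem_iff_mem _ (isUnit_algebraMap C 𝔪 X hv)).mp ?_
    rw [← map_mul]
    exact Ideal.mem_map_of_mem _ hvz
  obtain ⟨t, ht⟩ := (Module.Finite.fg_top : (⊤ : Submodule R C).FG)
  let f : C →ₗ[R] EGA4.Cpl X := (IsScalarTower.toAlgHom R C (EGA4.Cpl X)).toLinearMap
  have hC : ∀ c : C, f c ∈ Submodule.span (EGA4.Cpl R) ((t.image f : Finset _) : Set (EGA4.Cpl X)) := by
    intro c
    have hc : c ∈ Submodule.span R (t : Set C) := ht ▸ Submodule.mem_top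
    have := Submodule.mem_map_of_mem (f := f) hc
    rw [Submodule.map_span, ← Finset.coe_image] at this
    exact Submodule.span_le_restrictScalars R (EGA4.Cpl R) _ this
  have hfin : Module.Finite (EGA4.Cpl R) (EGA4.Cpl X) :=
    Cohen12.finite_of_residue (EGA4.Cpl R) (maximalIdeal (EGA4.Cpl R)) hle (t.image f)
      (fun y => by
        obtain ⟨c, hc⟩ := exists_approx C 𝔪 X y 1
        exact ⟨f c, hC c, by rw [pow_one] at hc; exact hc⟩)
      ⟨c, hprim⟩
  refine ⟨hfin, fun y => ?_⟩
  have htop : (⊤ : Submodule (EGA4.Cpl R) (EGA4.Cpl X)) ≤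
      Submodule.span (EGA4.Cpl R) ((t.image f : Finset _) : Set (EGA4.Cpl X)) := by
    refine Submodule.le_of_le_smul_of_le_jacobson_bot hfin.fg_top
      (IsLocalRing.maximalIdeal_le_jacobson _) ?_
    intro y _
    obtain ⟨d, hd⟩ := exists_approx C 𝔪 X y c
    rw [Submodule.mem_sup]
    refine ⟨f d, hC d, y - f d, ?_, by abel⟩
    rw [Ideal.smul_top_eq_map]
    exact hprim hd
  have hy := htop (Submodule.mem_top : y ∈ ⊤)
  suffices ∀ y ∈ Submodule.span (EGA4.Cpl R) ((t.image f : Finset _) : Set (EGA4.Cpl X)),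
      y ∈ (lift R C X ρ).range from this y hy
  intro y hy
  induction hy using Submodule.span_induction with
  | mem y hy =>
    obtain ⟨c, -, rfl⟩ := Finset.mem_image.mp (Finset.mem_coe.mp hy)
    exact ⟨c ⊗ₜ 1, by
      show Algebra.TensorProduct.lift _ _ _ (c ⊗ₜ[R] (1 : EGA4.Cpl R)) = _
      rw [Algebra.TensorProduct.lift_tmul, map_one, mul_one]
      rfl⟩
  | zero => exact zero_mem _
  | add a b _ _ ha hb => exact add_mem ha hb
  | smul r a _ ha =>
    rw [Algebra.smul_def]
    refine mul_mem ⟨1 ⊗ₜ r, ?_⟩ ha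
    show Algebra.TensorProduct.lift _ _ _ ((1 : C) ⊗ₜ[R] r) = _
    rw [Algebra.TensorProduct.lift_tmul, map_one, one_mul]
    rfl

theorem map_maximalIdeal_tensor (k : ℕ) {z : C ⊗[R] EGA4.Cpl R} :
    ∃ c : C, z - algebraMap C _ c ∈
      ((maximalIdeal R).map (algebraMap R C) ^ k).map (algebraMap C (C ⊗[R] EGA4.Cpl R)) := by
  induction z using TensorProduct.induction_on with
  | zero => exact ⟨0, by simp⟩
  | add a b ha hb =>
    obtain ⟨c, hc⟩ := ha
    obtain ⟨d, hd⟩ := hb
    refine ⟨c + d, ?_⟩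
    rw [map_add, add_sub_add_comm]
    exact add_mem hc hd
  | tmul a r =>
    obtain ⟨b, hb⟩ := Cohen12.exists_sub_mem_pow R k r
    refine ⟨a * algebraMap R C b, ?_⟩
    have h1 : (algebraMap C (C ⊗[R] EGA4.Cpl R)) (a * algebraMap R C b) =
        a ⊗ₜ (algebraMap R (EGA4.Cpl R) b) := by
      rw [Algebra.TensorProduct.algebraMap_apply, Algebra.algebraMap_self, RingHom.id_apply, mul_comm,
        ← Algebra.smul_def, TensorProduct.smul_tmul, Algebra.smul_def, mul_one]
    rw [h1, ← tmul_sub, Ideal.map_pow, Ideal.map_map, ← IsScalarTower.algebraMap_eq, ← Ideal.map_pow,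
      show a ⊗ₜ[R] (r - algebraMap R _ b) = (a ⊗ₜ[R] (1 : EGA4.Cpl R)) *
        Algebra.TensorProduct.includeRight (r - algebraMap R _ b) by
      rw [Algebra.TensorProduct.includeRight_apply, Algebra.TensorProduct.tmul_mul_tmul, mul_one, one_mul]]
    refine Ideal.mul_mem_left _ _ ?_
    rw [Cohen12.pow_maximalIdeal_completion] at hb
    have := Ideal.mem_map_of_mem
      (Algebra.TensorProduct.includeRight : EGA4.Cpl R →ₐ[R] C ⊗[R] EGA4.Cpl R).toRingHom hb
    rw [Ideal.map_map, show ((Algebra.TensorProduct.includeRight :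
      EGA4.Cpl R →ₐ[R] C ⊗[R] EGA4.Cpl R).toRingHom).comp (algebraMap R (EGA4.Cpl R)) =
        algebraMap R (C ⊗[R] EGA4.Cpl R) from RingHom.ext fun x =>
          (Algebra.TensorProduct.includeRight : EGA4.Cpl R →ₐ[R] C ⊗[R] EGA4.Cpl R).commutes x] at this
    exact this

omit [Module.Finite R C] in
theorem isNoetherianRing_tensor [Module.Finite R C] : IsNoetherianRing (C ⊗[R] EGA4.Cpl R) := by
  have := Cohen12.isNoetherianRing_completion R
  have : IsNoetherianRing (EGA4.Cpl R ⊗[R] C) :=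
    isNoetherianRing_iff.2 (isNoetherian_of_tower (EGA4.Cpl R) inferInstance)
  exact isNoetherianRing_of_ringEquiv _ (Algebra.TensorProduct.comm R (EGA4.Cpl R) C).toRingEquiv

set_option maxHeartbeats 1000000 in
include 𝔪 in
/-- An element killed in the completion is killed by an element outside the maximal ideal. -/
theorem exists_mul_eq_zero {z : C ⊗[R] EGA4.Cpl R} (hz : lift R C X ρ z = 0) :
    ∃ v, lift R C X ρ v ∉ maximalIdeal (EGA4.Cpl X) ∧ v * z = 0 := by
  set π := lift R C X ρ
  let n : Ideal (C ⊗[R] EGA4.Cpl R) := (maximalIdeal (EGA4.Cpl X)).comap π.toRingHom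
  have : n.IsPrime := Ideal.IsPrime.comap _
  have := isNoetherianRing_tensor R C
  have hπ : ∀ c : C, π (algebraMap C (C ⊗[R] EGA4.Cpl R) c) = algebraMap C (EGA4.Cpl X) c := π.commutes
  have h𝔪n : 𝔪.map (algebraMap C (C ⊗[R] EGA4.Cpl R)) ≤ n := by
    rw [Ideal.map_le_iff_le_comap]
    intro c hc
    show π (algebraMap C (C ⊗[R] EGA4.Cpl R) c) ∈ maximalIdeal _
    rw [hπ, ← pow_one (maximalIdeal (EGA4.Cpl X)), pow_maximalIdeal_eq C 𝔪 X, pow_one]
    exact Ideal.mem_map_of_mem _ hc
  have hC : ((maximalIdeal R).map (algebraMap R C)).map (algebraMap C (C ⊗[R] EGA4.Cpl R)) ≤ n :=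
    (Ideal.map_mono (map_maximalIdeal_le_self R C 𝔪)).trans h𝔪n
  refine exists_mul_eq_zero_of_pow n z ?_
  intro k
  obtain ⟨c, hc⟩ := map_maximalIdeal_tensor R C k (z := z)
  rw [Ideal.map_pow] at hc
  have h1 := Ideal.pow_right_mono hC k hc
  have h2 : algebraMap C (EGA4.Cpl X) c ∈ maximalIdeal (EGA4.Cpl X) ^ k := by
    have hle : (n ^ k).map π.toRingHom ≤ maximalIdeal (EGA4.Cpl X) ^ k := by
      rw [Ideal.map_pow]
      exact Ideal.pow_right_mono Ideal.map_comap_le k
    have := hle (Ideal.mem_map_of_mem _ h1)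
    rw [AlgHom.toRingHom_eq_coe, RingHom.coe_coe, map_sub, hπ, hz, zero_sub] at this
    exact neg_mem_iff.mp this
  obtain ⟨v, hv, hvc⟩ := algebraMap_mem_pow C 𝔪 X h2
  have hvn : algebraMap C (C ⊗[R] EGA4.Cpl R) v ∉ n := fun h => by
    have h' : π (algebraMap C (C ⊗[R] EGA4.Cpl R) v) ∈ maximalIdeal _ := h
    rw [hπ] at h'
    exact h' (isUnit_algebraMap C 𝔪 X hv)
  have h3 : algebraMap C (C ⊗[R] EGA4.Cpl R) v * z ∈ n ^ k := by
    have : algebraMap C (C ⊗[R] EGA4.Cpl R) v * z = algebraMap C (C ⊗[R] EGA4.Cpl R) v * (z - algebraMap C (C ⊗[R] EGA4.Cpl R) c) + algebraMap C (C ⊗[R] EGA4.Cpl R) (v * c) := by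
      rw [map_mul]; ring
    rw [this]
    refine add_mem (Ideal.mul_mem_left _ _ h1) (Ideal.pow_right_mono h𝔪n k ?_)
    rw [← Ideal.map_pow]
    exact Ideal.mem_map_of_mem _ hvc
  exact ⟨_, hvn, h3⟩

include 𝔪 ρ in
/-- The completion at a maximal ideal is normal as soon as `C ⊗ R̂` is. -/
theorem isDomain_isIntegrallyClosed_cpl (h : EGA4.IsNormalRing (C ⊗[R] EGA4.Cpl R)) :
    IsDomain (EGA4.Cpl X) ∧ IsIntegrallyClosed (EGA4.Cpl X) := by
  set π := lift R C X ρ
  let n : Ideal (C ⊗[R] EGA4.Cpl R) := (maximalIdeal (EGA4.Cpl X)).comap π.toRingHom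
  have : n.IsPrime := Ideal.IsPrime.comap _
  let L := Localization.AtPrime n
  have hu : ∀ y : n.primeCompl, IsUnit (π.toRingHom y) := fun y => notMem_maximalIdeal.mp y.2
  let g : L →+* EGA4.Cpl X := IsLocalization.lift hu
  have hg : Function.Bijective g := by
    refine ⟨(IsLocalization.lift_injective_iff hu).mpr fun x y => ⟨fun h => ?_, fun h => ?_⟩,
      fun y => ?_⟩
    · obtain ⟨s, hs⟩ := (IsLocalization.eq_iff_exists n.primeCompl L).mp h
      have := congrArg π.toRingHom hs
      rw [map_mul, map_mul] at this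
      exact (hu s).mul_left_cancel this
    · obtain ⟨v, hv, hvz⟩ := exists_mul_eq_zero R C 𝔪 X ρ (z := x - y)
        (by rw [map_sub]; exact sub_eq_zero.mpr h)
      refine (IsLocalization.eq_iff_exists n.primeCompl L).mpr ⟨⟨v, hv⟩, ?_⟩
      rw [mul_sub, sub_eq_zero] at hvz
      exact hvz
    · obtain ⟨z, rfl⟩ := (finite_of_hom R C 𝔪 X ρ).2 y
      exact ⟨algebraMap _ L z, IsLocalization.lift_eq hu z⟩
  obtain ⟨hd, hi⟩ := h n
  let e := RingEquiv.ofBijective g hg
  exact ⟨e.symm.toMulEquiv.isDomain _, IsIntegrallyClosed.of_equiv e⟩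

include 𝔪 in
/-- The completion of the base maps injectively. -/
theorem injective_of_hom [IsDomain (EGA4.Cpl R)] (K Ω : Type u) [Field K] [Field Ω] [Algebra R K]
    [IsFractionRing R K] [Algebra K Ω] [Algebra R Ω] [IsScalarTower R K Ω] [FiniteDimensional K Ω]
    (ι : C →ₗ[R] Ω) (hι : Function.Injective ι) : Function.Injective ρ := by
  classical
  let b := Module.finBasis K Ω
  set N := Module.finrank K Ω
  let co : C →ₗ[R] (Fin N → K) := (b.equivFun.restrictScalars R).toLinearMap.comp ι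
  obtain ⟨t, ht⟩ := (Module.Finite.fg_top : (⊤ : Submodule R C).FG)
  obtain ⟨s, hs⟩ := IsLocalization.exist_integer_multiples (nonZeroDivisors R) (t ×ˢ Finset.univ)
    (fun p : C × Fin N => co p.1 p.2)
  have hint : ∀ c i, IsLocalization.IsInteger R ((s : R) • co c i) := by
    intro c
    have hc : c ∈ Submodule.span R (t : Set C) := ht ▸ Submodule.mem_top
    induction hc using Submodule.span_induction with
    | mem c hc => exact fun i => hs (c, i) (Finset.mem_product.mpr ⟨hc, Finset.mem_univ i⟩)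
    | zero => intro i; rw [map_zero, Pi.zero_apply, smul_zero]; exact IsLocalization.isInteger_zero
    | add c d _ _ h1 h2 =>
      intro i; rw [map_add, Pi.add_apply, smul_add]; exact IsLocalization.isInteger_add (h1 i) (h2 i)
    | smul r c _ h1 =>
      intro i
      rw [map_smul, Pi.smul_apply, smul_comm]
      exact IsLocalization.isInteger_smul (h1 i)
  choose f hf using hint
  have hfinj := IsFractionRing.injective R K
  let F : C →ₗ[R] (Fin N → R) :=
    { toFun := f
      map_add' := fun c d => funext fun i => hfinj (by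
        rw [Pi.add_apply, map_add, hf, hf, hf, map_add, Pi.add_apply, smul_add])
      map_smul' := fun r c => funext fun i => hfinj (by
        rw [RingHom.id_apply, Pi.smul_apply, smul_eq_mul, map_mul, hf, hf, map_smul, Pi.smul_apply,
          smul_comm, Algebra.smul_def r]) }
  have hFinj : Function.Injective F := fun c d hcd => hι <| b.equivFun.injective <| funext fun i => by
    have h := congrArg (algebraMap R K) (congrFun hcd i)
    change algebraMap R K (f c i) = algebraMap R K (f d i) at h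
    rw [hf, hf, Algebra.smul_def, Algebra.smul_def] at h
    exact mul_left_cancel₀ (fun h0 => nonZeroDivisors.ne_zero s.2 (hfinj (h0.trans (map_zero _).symm))) h
  have : Module.Flat R (EGA4.Cpl R) := AdicCompletion.flat_of_isNoetherian _
  let E : EGA4.Cpl R ⊗[R] C →ₗ[EGA4.Cpl R] (Fin N → EGA4.Cpl R) :=
    ((TensorProduct.piScalarRight R (EGA4.Cpl R) (EGA4.Cpl R) (Fin N)).toLinearMap).comp
      (F.baseChange (EGA4.Cpl R))
  have hE : Function.Injective E :=
    fun a b hab => by
      refine Module.Flat.lTensor_preserves_injective_linearMap (M := EGA4.Cpl R) F hFinj ?_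
      have h' : F.baseChange (EGA4.Cpl R) a = F.baseChange (EGA4.Cpl R) b :=
        (TensorProduct.piScalarRight R (EGA4.Cpl R) (EGA4.Cpl R) (Fin N)).injective hab
      rwa [LinearMap.baseChange_eq_ltensor] at h' 
  refine (injective_iff_map_eq_zero ρ).2 fun r hr => ?_
  set π := lift R C X ρ
  have hπr : π (1 ⊗ₜ r) = 0 := by
    show Algebra.TensorProduct.lift _ _ _ ((1 : C) ⊗ₜ[R] r) = _
    rw [Algebra.TensorProduct.lift_tmul, map_one, one_mul, hr]
  obtain ⟨v, hv, hvr⟩ := exists_mul_eq_zero R C 𝔪 X ρ hπr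
  by_contra hr0
  let w := Algebra.TensorProduct.comm R C (EGA4.Cpl R) v
  have hw : r • w = 0 := by
    have := congrArg (Algebra.TensorProduct.comm R C (EGA4.Cpl R)) hvr
    rw [map_zero, map_mul, Algebra.TensorProduct.comm_tmul] at this
    rw [Algebra.smul_def, Algebra.TensorProduct.algebraMap_apply, Algebra.algebraMap_self,
      RingHom.id_apply, mul_comm]
    exact this
  have hw0 : w = 0 := hE (by
    rw [map_zero]
    have := congrArg E hw
    rw [map_smul, map_zero] at this
    exact (smul_eq_zero.mp this).resolve_left hr0)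
  have hv0 : v = 0 := (Algebra.TensorProduct.comm R C (EGA4.Cpl R)).injective (hw0.trans (map_zero _).symm)
  exact hv (by rw [hv0, map_zero]; exact zero_mem _)

end CplGal24
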